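import Groth.Agent.RegularSerre.Localization
import Groth.Agent.EtStalk.Basic
import Groth.Agent.ProjDim.Finite
import Mathlib.RingTheory.Flat.FaithfullyFlat.Algebra

/-!
# Regularity along flat local homomorphisms
-/

set_option autoImplicit false

universe u

namespace Groth.Agent.J2Lib

open IsLocalRing CategoryTheory

/-- Regularity descends along flat local homomorphisms. -/
theorem isRegularLocalRing_of_flat (R S : Type u) [CommRing R] [IsLocalRing R] [IsNoetherianRing R]
    [CommRing S] [IsRegularLocalRing S] [Algebra R S] [IsLocalHom (algebraMap R S)]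
    [Module.Flat R S] : IsRegularLocalRing R := by
  have := Module.FaithfullyFlat.of_flat_of_isLocalHom (A := R) (B := S)
  have hd : ringKrullDim S = ((maximalIdeal S).spanFinrank : WithBot ℕ∞) :=
    IsRegularLocalRing.spanFinrank_maximalIdeal.symm
  have h := ProjDim.gldim_le_of_regularLocal S _ hd
    (ModuleCat.of S (TensorProduct R S (ResidueField R)))
  exact RegularSerre.isRegularLocalRing_of_projDim_residueField _ R le_rfl _
    (ProjDim.projDim_descend S _ (ResidueField R) h)

theorem ringKrullDim_le_of_flat (R S : Type u) [CommRing R] [IsLocalRing R]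
    [CommRing S] [IsLocalRing S] [Algebra R S] [IsLocalHom (algebraMap R S)] [Module.Flat R S] :
    ringKrullDim R ≤ ringKrullDim S := by
  have := Module.FaithfullyFlat.of_flat_of_isLocalHom (A := R) (B := S)
  refine iSup_le fun l => ?_
  obtain ⟨Q, hQ⟩ := PrimeSpectrum.comap_surjective_of_faithfullyFlat (A := R) (B := S) l.last
  haveI : Q.asIdeal.LiesOver l.last.asIdeal :=
    ⟨(congrArg PrimeSpectrum.asIdeal hQ).symm⟩
  obtain ⟨L, hlen, -, -⟩ := Ideal.exists_ltSeries_of_hasGoingDown l Q.asIdeal
  exact le_trans (by exact_mod_cast hlen.ge) (Order.LTSeries.length_le_krullDim L)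

/-- Regularity ascends along flat local homomorphisms with trivial closed fibre. -/
theorem isRegularLocalRing_of_flat_of_map_maximalIdeal (R S : Type u) [CommRing R]
    [IsRegularLocalRing R] [CommRing S] [IsLocalRing S] [IsNoetherianRing S] [Algebra R S]
    [IsLocalHom (algebraMap R S)] [Module.Flat R S]
    (hm : (maximalIdeal R).map (algebraMap R S) = maximalIdeal S) : IsRegularLocalRing S := by
  refine IsRegularLocalRing.of_spanFinrank_maximalIdeal_le S ?_
  rw [EtStalk.spanFinrank_eq R S hm, IsRegularLocalRing.spanFinrank_maximalIdeal]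
  exact ringKrullDim_le_of_flat R S

/-- A Noetherian-ness and regularity descent along faithfully flat maps. -/
theorem isRegularRing_of_faithfullyFlat (R S : Type u) [CommRing R] [CommRing S] [Algebra R S]
    [Module.FaithfullyFlat R S] [IsRegularRing S] : IsRegularRing R := by
  haveI : IsNoetherianRing R := by
    rw [isNoetherianRing_iff, isNoetherian_iff']
    refine StrictMono.wellFoundedGT (f := fun I : Ideal R => I.map (algebraMap R S)) ?_
    intro (I : Ideal R) (J : Ideal R) h
    refine lt_of_le_of_ne (Ideal.map_mono h.le) fun he => h.ne ?_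
    replace he : Ideal.map (algebraMap R S) I = Ideal.map (algebraMap R S) J := he
    rw [← Ideal.comap_map_eq_self_of_faithfullyFlat (B := S) I, he,
      Ideal.comap_map_eq_self_of_faithfullyFlat]
  rw [isRegularRing_iff]
  intro p hp
  obtain ⟨Q, hQ⟩ := PrimeSpectrum.comap_surjective_of_faithfullyFlat (A := R) (B := S) ⟨p, hp⟩
  haveI hlie : Q.asIdeal.LiesOver p := ⟨(congrArg PrimeSpectrum.asIdeal hQ).symm⟩
  let Sq := Localization.AtPrime Q.asIdeal
  letI : Algebra (Localization.AtPrime p) Sq :=
    (Localization.localRingHom p Q.asIdeal (algebraMap R S) hlie.over).toAlgebra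
  haveI : IsScalarTower R (Localization.AtPrime p) Sq := IsScalarTower.of_algebraMap_eq fun x => by
    rw [RingHom.algebraMap_toAlgebra, Localization.localRingHom_to_map,
      ← IsScalarTower.algebraMap_apply]
  haveI : IsLocalHom (algebraMap (Localization.AtPrime p) Sq) :=
    Localization.isLocalHom_localRingHom p Q.asIdeal (algebraMap R S) hlie.over
  haveI : Module.Flat R Sq := Module.Flat.trans R S Sq
  haveI : Module.Flat (Localization.AtPrime p) Sq :=
    (Module.flat_iff_of_isLocalization (Localization.AtPrime p) p.primeCompl Sq).2 inferInstance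
  exact isRegularLocalRing_of_flat (Localization.AtPrime p) Sq

end Groth.Agent.J2Lib
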