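import Groth.Agent.J2Lib.GenReg
import Mathlib.FieldTheory.SeparablyGenerated
import Mathlib.FieldTheory.PurelyInseparable.PerfectClosure
import Mathlib.FieldTheory.IsAlgClosed.AlgebraicClosure

/-!
# Nagata's criterion for J-2
-/

set_option autoImplicit false

universe u

namespace Groth.Agent.J2Lib

open Polynomial

variable {A : Type u} [CommRing A] {M : Type u} [Field M] [Algebra A M]

/-- The subfield generated by a set, over the image of the base. -/
abbrev fc (A : Type u) [CommRing A] {M : Type u} [Field M] [Algebra A M] (T : Set M) : Subfield M :=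
  Subfield.closure (Set.range (algebraMap A M) ∪ T)

theorem fc_mono {T T' : Set M} (h : T ⊆ T') : fc A T ≤ fc A T' :=
  Subfield.closure_mono (Set.union_subset_union_right _ h)

theorem exists_fractions {T : Set M} {x : M} (hx : x ∈ fc A T) :
    ∃ y ∈ Algebra.adjoin A T, ∃ z ∈ Algebra.adjoin A T, z ≠ 0 ∧ x * z = y := by
  obtain ⟨y, hy, z, hz, rfl⟩ := Subfield.mem_closure_iff.1 hx
  rw [← Algebra.adjoin_eq_ring_closure] at hy hz
  by_cases h : z = 0
  · exact ⟨0, zero_mem _, 1, one_mem _, one_ne_zero, by simp [h]⟩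
  · exact ⟨y, hy, z, hz, h, div_mul_cancel₀ y h⟩

theorem exists_finset_closure {T P : Set M} {x : M} (hx : x ∈ fc A (T ∪ P)) :
    ∃ κ : Finset M, (κ : Set M) ⊆ P ∧ x ∈ fc A (T ∪ κ) := by
  classical
  refine Subfield.closure_induction (fun z hz => ?_) ⟨∅, by simp, one_mem _⟩ ?_ ?_ ?_ ?_ hx
  · rcases hz with hz | hz | hz
    · exact ⟨∅, by simp, Subfield.subset_closure (Or.inl hz)⟩
    · exact ⟨∅, by simp, Subfield.subset_closure (Or.inr (Or.inl hz))⟩
    · exact ⟨{z}, by simp [hz], Subfield.subset_closure (Or.inr (Or.inr (by simp)))⟩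
  · rintro a b - - ⟨κ, hκ, ha⟩ ⟨κ', hκ', hb⟩
    refine ⟨κ ∪ κ', by simp [hκ, hκ'], add_mem (fc_mono ?_ ha) (fc_mono ?_ hb)⟩ <;>
      exact Set.union_subset_union_right _ (by simp)
  · rintro a - ⟨κ, hκ, ha⟩
    exact ⟨κ, hκ, neg_mem ha⟩
  · rintro a - ⟨κ, hκ, ha⟩
    exact ⟨κ, hκ, inv_mem ha⟩
  · rintro a b - - ⟨κ, hκ, ha⟩ ⟨κ', hκ', hb⟩
    refine ⟨κ ∪ κ', by simp [hκ, hκ'], mul_mem (fc_mono ?_ ha) (fc_mono ?_ hb)⟩ <;>
      exact Set.union_subset_union_right _ (by simp)

/-- Elements with a power in the fraction field of the base can be replaced by integral ones. -/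
theorem exists_integral_finset {T : Set M} (P : Subfield M) (hA : Set.range (algebraMap A M) ⊆ P)
    (hP : ∀ k ∈ P, ∃ q : ℕ, 0 < q ∧ k ^ q ∈ fc A (∅ : Set M))
    (Y : Finset M) (hY : ∀ y ∈ Y, y ∈ fc A (T ∪ P)) :
    ∃ κ : Finset M, (κ : Set M) ⊆ P ∧ (∀ k ∈ κ, IsIntegral A k) ∧
      ∀ y ∈ Y, y ∈ fc A (T ∪ κ) := by
  classical
  choose! κ hκP hκ using fun y hy => exists_finset_closure (hY y hy)
  have hint : ∀ k ∈ Y.biUnion κ, ∃ k' ∈ P, IsIntegral A k' ∧ k ∈ fc A ({k'} : Set M) := by
    intro k hk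
    obtain ⟨y, hy, hky⟩ := Finset.mem_biUnion.1 hk
    obtain ⟨q, hq, hkq⟩ := hP k (hκP y hy hky)
    obtain ⟨a, ha, z, hz, hz0, haz⟩ := exists_fractions hkq
    rw [Algebra.adjoin_empty] at ha hz
    obtain ⟨a, rfl⟩ := Algebra.mem_bot.1 ha
    obtain ⟨z, rfl⟩ := Algebra.mem_bot.1 hz
    refine ⟨algebraMap A M z * k, mul_mem (hA ⟨z, rfl⟩) (hκP y hy hky), ?_, ?_⟩
    · refine IsIntegral.of_pow hq ?_
      have : (algebraMap A M z * k) ^ q = algebraMap A M (a * z ^ (q - 1)) := by
        obtain ⟨q, rfl⟩ : ∃ q', q = q' + 1 := ⟨q - 1, by omega⟩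
        rw [map_mul, map_pow, ← haz, Nat.add_sub_cancel, mul_pow, pow_succ, pow_succ k]
        ring
      rw [this]
      exact isIntegral_algebraMap
    · have h1 : algebraMap A M z * k ∈ fc A ({algebraMap A M z * k} : Set M) :=
        Subfield.subset_closure (Or.inr rfl)
      have h2 : algebraMap A M z ∈ fc A ({algebraMap A M z * k} : Set M) :=
        Subfield.subset_closure (Or.inl ⟨z, rfl⟩)
      simpa [hz0] using div_mem h1 h2
  choose! κ' hκ'P hκ'int hκ'mem using hint
  refine ⟨(Y.biUnion κ).image κ', ?_, ?_, fun y hy => ?_⟩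
  · intro k hk
    obtain ⟨k₀, hk₀, rfl⟩ := Finset.mem_image.1 hk
    exact hκ'P k₀ hk₀
  · intro k hk
    obtain ⟨k₀, hk₀, rfl⟩ := Finset.mem_image.1 hk
    exact hκ'int k₀ hk₀
  · refine (Subfield.closure_le.2 ?_) (hκ y hy)
    rintro w (hw | hw | hw)
    · exact Subfield.subset_closure (Or.inl hw)
    · exact Subfield.subset_closure (Or.inr (Or.inl hw))
    · have hw' : w ∈ Y.biUnion κ := Finset.mem_biUnion.2 ⟨y, hy, hw⟩
      have h5 : ({κ' w} : Set M) ⊆ T ∪ ((Y.biUnion κ).image κ' : Finset M) := by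
        rw [Set.singleton_subset_iff]
        exact Or.inr (Finset.mem_coe.2 (Finset.mem_image_of_mem κ' hw'))
      exact fc_mono h5 (hκ'mem w hw')

/-- Clearing denominators. -/
theorem exists_polynomial {T : Set M} (g : M[X]) (hg : ∀ j, g.coeff j ∈ fc A T) :
    ∃ (r : M) (h : (Algebra.adjoin A T)[X]), r ≠ 0 ∧
      h.map (Algebra.adjoin A T).val.toRingHom = C r * g := by
  classical
  choose y hy z hz hz0 hyz using fun j => exists_fractions (hg j)
  refine ⟨∏ j ∈ Finset.range (g.natDegree + 1), z j, ?_⟩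
  set r := ∏ j ∈ Finset.range (g.natDegree + 1), z j
  have hmem : ∀ j, r * g.coeff j ∈ Algebra.adjoin A T := by
    intro j
    by_cases hj : j ∈ Finset.range (g.natDegree + 1)
    · show (∏ i ∈ Finset.range (g.natDegree + 1), z i) * g.coeff j ∈ _
      rw [← Finset.prod_erase_mul _ z hj, mul_assoc, mul_comm (z j), hyz j]
      exact mul_mem (prod_mem fun i _ => hz i) (hy j)
    · rw [Finset.mem_range] at hj
      rw [coeff_eq_zero_of_natDegree_lt (by omega), mul_zero]
      exact zero_mem _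
  obtain ⟨h, hh⟩ : C r * g ∈ Polynomial.lifts (Algebra.adjoin A T).val.toRingHom := by
    rw [Polynomial.lifts_iff_coeff_lifts]
    intro j
    exact ⟨⟨r * g.coeff j, hmem j⟩, by simp⟩
  exact ⟨h, Finset.prod_ne_zero_iff.2 fun j _ => hz0 j, hh⟩

/-- Evaluation into a larger subalgebra. -/
noncomputable def evalTo {R R' : Subalgebra A M} (hle : R ≤ R') (x : M) (hx : x ∈ R') : R[X] →+* R' :=
  Polynomial.eval₂RingHom (Subalgebra.inclusion hle).toRingHom ⟨x, hx⟩

theorem coe_evalTo {R R' : Subalgebra A M} (hle : R ≤ R') (x : M) (hx : x ∈ R') (k : R[X]) :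
    (evalTo hle x hx k : M) = (k.map R.val.toRingHom).eval x := by
  show R'.val.toRingHom (k.eval₂ (Subalgebra.inclusion hle).toRingHom ⟨x, hx⟩) = _
  rw [Polynomial.hom_eval₂, eval_map]
  rfl

/-- Adjoining one separable element. -/
theorem genReg_insert {R R' : Subalgebra A M} [IsNoetherianRing R] (hle : R ≤ R') (x : M)
    (hxR' : x ∈ R') (hgen : R' ≤ Algebra.adjoin A ((R : Set M) ∪ {x})) (h : GenReg R)
    (r : M) (hr : r ≠ 0) (f : R[X]) (g : M[X]) (hfg : f.map R.val.toRingHom = C r * g)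
    (hgx : g.eval x = 0) (hgx' : (derivative g).eval x ≠ 0) : GenReg R' := by
  have hφ : Function.Surjective (evalTo hle x hxR') := by
    rintro ⟨y, hy⟩
    suffices hs : ∃ k : R[X], (evalTo hle x hxR' k : M) = y by
      obtain ⟨k, hk⟩ := hs
      exact ⟨k, Subtype.ext hk⟩
    refine Algebra.adjoin_induction (fun w hw => ?_) (fun a => ⟨C (algebraMap A R a), ?_⟩)
      (fun a b _ _ ha hb => ?_) (fun a b _ _ ha hb => ?_) (hgen hy)
    · rcases hw with hw | hw
      · exact ⟨C ⟨w, hw⟩, by rw [coe_evalTo, map_C, eval_C]; rfl⟩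
      · rw [Set.mem_singleton_iff] at hw
        exact ⟨Polynomial.X, by rw [coe_evalTo, map_X, eval_X, hw]⟩
    · rw [coe_evalTo, map_C, eval_C]; rfl
    · obtain ⟨k, hk⟩ := ha
      obtain ⟨k', hk'⟩ := hb
      exact ⟨k + k', by rw [map_add, Subalgebra.coe_add, hk, hk']⟩
    · obtain ⟨k, hk⟩ := ha
      obtain ⟨k', hk'⟩ := hb
      exact ⟨k * k', by rw [map_mul, Subalgebra.coe_mul, hk, hk']⟩
  refine genReg_separable h (evalTo hle x hxR') hφ ?_ f (Subtype.ext ?_) ?_
  · intro a b hab
    have := congrArg (Subtype.val : R' → M) hab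
    rw [RingHom.comp_apply, RingHom.comp_apply, coe_evalTo, coe_evalTo, map_C, map_C, eval_C,
      eval_C] at this
    exact Subtype.ext this
  · rw [coe_evalTo, hfg, eval_mul, eval_C, hgx, mul_zero]
    rfl
  · intro h0
    have := congrArg (Subtype.val : R' → M) h0
    rw [coe_evalTo, ← derivative_map, hfg, derivative_C_mul, eval_mul, eval_C] at this
    exact mul_ne_zero hr hgx' this

theorem map_inclusion {R₀ R : Subalgebra A M} (hle : R₀ ≤ R) (f : R₀[X]) :
    (f.map (Subalgebra.inclusion hle).toRingHom).map R.val.toRingHom = f.map R₀.val.toRingHom := by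
  rw [Polynomial.map_map]
  rfl

/-- Adjoining finitely many separable elements. -/
theorem genReg_adjoin_finset [IsNoetherianRing A] {T : Set M} (hT : T.Finite)
    (h : GenReg (Algebra.adjoin A T)) (X : Finset M)
    (hX : ∀ x ∈ X, ∃ (r : M) (f : (Algebra.adjoin A T)[X]) (g : M[X]), r ≠ 0 ∧
      f.map (Algebra.adjoin A T).val.toRingHom = C r * g ∧
        g.eval x = 0 ∧ (derivative g).eval x ≠ 0) :
    GenReg (Algebra.adjoin A (T ∪ X)) := by
  classical
  induction X using Finset.induction_on with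
  | empty =>
    exact genReg_of_ringEquiv
      (Subalgebra.equivOfEq _ _ (by rw [Finset.coe_empty, Set.union_empty])).toRingEquiv h
  | @insert x X _ ih =>
    have ih' := ih fun y hy => hX y (Finset.mem_insert_of_mem hy)
    obtain ⟨r, f, g, hr, hfg, hgx, hgx'⟩ := hX x (Finset.mem_insert_self x X)
    haveI : Algebra.FiniteType A (Algebra.adjoin A (T ∪ (X : Set M))) :=
      (Subalgebra.fg_iff_finiteType _).1 (Subalgebra.fg_def.2 ⟨_, hT.union X.finite_toSet, rfl⟩)
    haveI : IsNoetherianRing (Algebra.adjoin A (T ∪ (X : Set M))) :=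
      Algebra.FiniteType.isNoetherianRing A _
    have hTR : Algebra.adjoin A T ≤ Algebra.adjoin A (T ∪ (X : Set M)) :=
      Algebra.adjoin_mono Set.subset_union_left
    refine genReg_insert (Algebra.adjoin_mono (Set.union_subset_union_right _ (by simp))) x
      (Algebra.subset_adjoin (Or.inr (by simp))) ?_ ih' r hr
      (f.map (Subalgebra.inclusion hTR).toRingHom) g ((map_inclusion hTR f).trans hfg) hgx hgx'
    refine Algebra.adjoin_mono ?_
    rintro w (hw | hw)
    · exact Or.inl (Algebra.subset_adjoin (Or.inl hw))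
    · rw [Finset.coe_insert, Set.mem_insert_iff] at hw
      rcases hw with rfl | hw
      · exact Or.inr rfl
      · exact Or.inl (Algebra.subset_adjoin (Or.inr hw))

set_option maxHeartbeats 2000000 in
theorem genReg_of_finiteType [IsNoetherianRing A]
    (H : ∀ (A' : Type u) [CommRing A'] [IsDomain A'] [Algebra A A'], Module.Finite A A' →
      ∃ U : Set (PrimeSpectrum A'), IsOpen U ∧ U.Nonempty ∧ U ⊆ EGA4.regLocus A')
    (B : Type u) [CommRing B] [IsDomain B] [Algebra A B] [Algebra.FiniteType A B] :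
    GenReg B := by
  classical
  let M := AlgebraicClosure (FractionRing B)
  haveI : IsScalarTower A B M := inferInstance
  let ψ : B →ₐ[A] M := IsScalarTower.toAlgHom A B M
  have hψ : Function.Injective ψ := by
    intro x y h
    apply IsFractionRing.injective B (FractionRing B)
    apply (algebraMap (FractionRing B) M).injective
    rw [← IsScalarTower.algebraMap_apply, ← IsScalarTower.algebraMap_apply]
    exact h
  obtain ⟨b0, hb0⟩ := (inferInstance : Algebra.FiniteType A B).out
  let b : Finset M := b0.image ψ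
  have hbrange : Algebra.adjoin A (b : Set M) = ψ.range := by
    rw [Finset.coe_image, ← AlgHom.map_adjoin, hb0, Algebra.map_top]
  let K : Subfield M := fc A (∅ : Set M)
  let Kp := perfectClosure K M
  have hKK : ∀ k : K, algebraMap K M k ∈ K := fun k => k.2
  have hrangeK : Set.range (algebraMap A M) ⊆ K := fun x hx => Subfield.subset_closure (Or.inl hx)
  have hrangeKp : Set.range (algebraMap A M) ⊆ Kp.toSubfield := by
    intro x hx
    exact Kp.algebraMap_mem ⟨x, hrangeK hx⟩
  have hKp : ∀ k ∈ Kp.toSubfield, ∃ q : ℕ, 0 < q ∧ k ^ q ∈ fc A (∅ : Set M) := by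
    intro k hk
    obtain ⟨n, y, hy⟩ := mem_perfectClosure_iff.1 hk
    exact ⟨ringExpChar K ^ n, pow_pos (expChar_pos K _) n, hy ▸ y.2⟩
  let E := IntermediateField.adjoin Kp (b : Set M)
  haveI : Algebra.EssFiniteType Kp E :=
    IntermediateField.essFiniteType_iff.2 (IntermediateField.fg_adjoin_finset b)
  haveI : PerfectField Kp := perfectClosure.perfectField K M
  obtain ⟨s, hs, hsep⟩ :=
    exists_isTranscendenceBasis_and_isSeparable_of_perfectField Kp E
  let sM : Finset M := s.image (Subtype.val : E → M)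
  have hE : ∀ x : M, x ∈ E ↔ x ∈ Subfield.closure (Set.range (algebraMap Kp M) ∪ (b : Set M)) :=
    fun x => Iff.rfl
  -- first round
  obtain ⟨κ₁, hκ₁P, hκ₁i, hκ₁⟩ := exists_integral_finset (T := (b : Set M)) Kp.toSubfield
    hrangeKp hKp sM fun y hy => by
      obtain ⟨y, -, rfl⟩ := Finset.mem_image.1 hy
      refine Subfield.closure_mono ?_ ((hE _).1 y.2)
      rintro w (⟨k, rfl⟩ | hw)
      · exact Or.inr (Or.inr k.2)
      · exact Or.inr (Or.inl hw)
  choose! num hnum den hden hden0 hmul using fun y hy => exists_fractions (hκ₁ y hy)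
  let d := ∏ y ∈ sM, den y
  have hd0 : d ≠ 0 := Finset.prod_ne_zero_iff.2 hden0
  have hdR : d ∈ Algebra.adjoin A ((b : Set M) ∪ κ₁) := prod_mem hden
  have hrangeE : ∀ a, algebraMap A M a ∈ E := fun a =>
    E.algebraMap_mem ⟨algebraMap A M a, hrangeKp ⟨a, rfl⟩⟩
  have hdE : d ∈ E := by
    refine Algebra.adjoin_induction (p := fun z _ => z ∈ E) (fun w hw => ?_) hrangeE
      (fun _ _ _ _ ha hb => add_mem ha hb) (fun _ _ _ _ ha hb => mul_mem ha hb) hdR
    rcases hw with hw | hw
    · exact IntermediateField.subset_adjoin Kp (b : Set M) hw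
    · exact E.algebraMap_mem ⟨w, hκ₁P hw⟩
  let X : Finset M := insert d⁻¹ b
  have hXE : ∀ x ∈ X, x ∈ E := by
    intro x hx
    rcases Finset.mem_insert.1 hx with rfl | hx
    · exact E.inv_mem hdE
    · exact IntermediateField.subset_adjoin Kp (b : Set M) hx
  let F := IntermediateField.adjoin Kp (s : Set E)
  have hsepX : ∀ x ∈ X, ∃ g : M[X], g.eval x = 0 ∧ (derivative g).eval x ≠ 0 ∧
      ∀ j, g.coeff j ∈ fc A ((sM : Set M) ∪ Kp.toSubfield) := by
    intro x hx
    have hxs : IsSeparable F (⟨x, hXE x hx⟩ : E) := Algebra.IsSeparable.isSeparable F _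
    let m := minpoly F (⟨x, hXE x hx⟩ : E)
    let j : F →+* M := E.val.toRingHom.comp F.val.toRingHom
    refine ⟨m.map j, ?_, ?_, fun k => ?_⟩
    · rw [eval_map]
      have h1 := congrArg E.val.toRingHom (minpoly.aeval F (⟨x, hXE x hx⟩ : E))
      rw [aeval_def, Polynomial.hom_eval₂, map_zero] at h1
      exact h1
    · rw [derivative_map, eval_map]
      intro h0
      refine hxs.aeval_derivative_ne_zero (minpoly.aeval F (⟨x, hXE x hx⟩ : E)) ?_
      apply E.val.injective
      rw [map_zero, aeval_def]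
      show E.val.toRingHom (eval₂ _ _ _) = 0
      rw [Polynomial.hom_eval₂]
      exact h0
    · rw [coeff_map]
      show ((m.coeff k : E) : M) ∈ _
      have hFle : ∀ y : E, y ∈ F → (y : M) ∈ fc A ((sM : Set M) ∪ Kp.toSubfield) := by
        intro y hy
        have h2 : (y : M) ∈ F.map E.val := ⟨y, hy, rfl⟩
        rw [IntermediateField.adjoin_map] at h2
        refine Subfield.closure_mono ?_ h2
        rintro w (⟨k, rfl⟩ | ⟨z, hz, rfl⟩)
        · exact Or.inr (Or.inr k.2)
        · exact Or.inr (Or.inl (Finset.mem_image_of_mem _ hz))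
      exact hFle _ (m.coeff k).2
  choose! g hg0 hg' hgc using hsepX
  -- second round
  let Y : Finset M := X.biUnion fun x => (Finset.range ((g x).natDegree + 1)).image (g x).coeff
  obtain ⟨κ₂, hκ₂P, hκ₂i, hκ₂⟩ := exists_integral_finset (T := (sM : Set M)) Kp.toSubfield
    hrangeKp hKp Y fun y hy => by
      obtain ⟨x, hx, hy⟩ := Finset.mem_biUnion.1 hy
      obtain ⟨j, -, rfl⟩ := Finset.mem_image.1 hy
      exact hgc x hx j
  let κ : Set M := (κ₁ : Set M) ∪ κ₂
  have hκP : κ ⊆ Kp.toSubfield := Set.union_subset hκ₁P hκ₂P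
  have hκi : ∀ k ∈ κ, IsIntegral A k := fun k hk => hk.elim (hκ₁i k) (hκ₂i k)
  have hκf : κ.Finite := κ₁.finite_toSet.union κ₂.finite_toSet
  -- the finite algebra
  let A' := Algebra.adjoin A κ
  haveI : Module.Finite A A' := Module.Finite.iff_fg.2 (fg_adjoin_of_finite hκf hκi)
  haveI : IsNoetherianRing A' := IsNoetherianRing.of_finite A A'
  have hA' : GenReg A' := by
    obtain ⟨U, hUo, hUne, hU⟩ := H A' inferInstance
    exact genReg_of_isOpen hUo hUne hU
  let ev : MvPolynomial (sM : Set M) A' →ₐ[A'] M := MvPolynomial.aeval Subtype.val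
  have hev : Function.Injective ev := by
    have hA'le : ∀ a : A', (a : M) ∈ Kp := fun a =>
      Algebra.adjoin_induction (p := fun z _ => z ∈ Kp) (fun w hw => hκP hw)
        (fun r => hrangeKp ⟨r, rfl⟩)
        (fun _ _ _ _ ha hb => add_mem ha hb) (fun _ _ _ _ ha hb => mul_mem ha hb) a.2
    let i : A' →+* Kp := A'.val.toRingHom.codRestrict Kp hA'le
    have hi : Function.Injective i := fun a b h => Subtype.ext (congrArg Subtype.val h :)
    have hsM : AlgebraicIndependent Kp (fun z : ↥(s : Set E) => ((z : E) : M)) :=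
      hs.1.map' (f := E.val) E.val.injective
    let σ : ↥(sM : Set M) → ↥(s : Set E) := fun z =>
      ⟨(Finset.mem_image.1 z.2).choose, (Finset.mem_image.1 z.2).choose_spec.1⟩
    have hσv : ∀ z, ((σ z : E) : M) = z := fun z => (Finset.mem_image.1 z.2).choose_spec.2
    have hσ : Function.Injective σ := fun a c h => Subtype.ext (by rw [← hσv a, h, hσv c])
    have hv : AlgebraicIndependent Kp (Subtype.val : ↥(sM : Set M) → M) := by
      have := hsM.comp σ hσ
      simpa [Function.comp_def, hσv] using this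
    have heq : ∀ q, ev q = MvPolynomial.aeval (R := Kp) Subtype.val (MvPolynomial.map i q) := by
      intro q
      simp only [ev, MvPolynomial.aeval_def, MvPolynomial.eval₂_map]
      rfl
    intro p q h
    apply MvPolynomial.map_injective i hi
    apply hv
    rw [← heq, ← heq]
    exact h
  have hP0 : GenReg (Algebra.adjoin A (κ ∪ (sM : Set M))) := by
    have hr : ∀ z : M, z ∈ ev.range ↔ z ∈ Algebra.adjoin A (κ ∪ (sM : Set M)) := by
      intro z
      rw [← Algebra.adjoin_range_eq_range_aeval, Subtype.range_coe, Algebra.adjoin_union_eq_adjoin_adjoin,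
        Subalgebra.mem_restrictScalars]
    let e : MvPolynomial (sM : Set M) A' ≃+* Algebra.adjoin A (κ ∪ (sM : Set M)) :=
      RingEquiv.ofBijective
        (ev.toRingHom.codRestrict _ fun q => (hr _).1 ⟨q, rfl⟩)
        ⟨fun p q h => hev (congrArg Subtype.val h :), fun z => by
          obtain ⟨q, hq⟩ := (hr _).2 z.2
          exact ⟨q, Subtype.ext hq⟩⟩
    exact genReg_of_ringEquiv e (genReg_mvPolynomial _ hA')
  have hC : GenReg (Algebra.adjoin A (κ ∪ (sM : Set M) ∪ (X : Set M))) := by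
    refine genReg_adjoin_finset (hκf.union sM.finite_toSet) hP0 X fun x hx => ?_
    obtain ⟨r, f, hr, hf⟩ := exists_polynomial (A := A) (T := κ ∪ (sM : Set M)) (g x) fun j => by
      by_cases hj : j ∈ Finset.range ((g x).natDegree + 1)
      · refine fc_mono ?_ (hκ₂ _ (Finset.mem_biUnion.2 ⟨x, hx, Finset.mem_image_of_mem _ hj⟩))
        rintro w (hw | hw)
        · exact Or.inr hw
        · exact Or.inl (Or.inr hw)
      · rw [Finset.mem_range] at hj
        rw [coeff_eq_zero_of_natDegree_lt (by omega)]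
        exact zero_mem _
    exact ⟨r, f, g x, hr, hf, hg0 x hx, hg' x hx⟩
  -- descent
  let B'' := Algebra.adjoin A (b : Set M)
  have hB' : GenReg (Algebra.adjoin A ((b : Set M) ∪ κ)) := by
    set B' := Algebra.adjoin A ((b : Set M) ∪ κ)
    set C' := Algebra.adjoin A (κ ∪ (sM : Set M) ∪ (X : Set M))
    have hle : B' ≤ C' := Algebra.adjoin_mono (by
      rintro w (hw | hw)
      · exact Or.inr (Finset.mem_insert_of_mem hw)
      · exact Or.inl (Or.inl hw))
    letI : Algebra B' C' := (Subalgebra.inclusion hle).toRingHom.toAlgebra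
    have hsub : Algebra.adjoin A ((b : Set M) ∪ κ₁) ≤ B' :=
      Algebra.adjoin_mono (Set.union_subset_union_right _ Set.subset_union_left)
    have hdB' : d ∈ B' := hsub hdR
    have hdC : d⁻¹ ∈ C' := Algebra.subset_adjoin (Or.inr (Finset.mem_insert_self _ _))
    refine genReg_of_birational (R := B') (S := C') (Subalgebra.inclusion_injective hle) ⟨d, hdB'⟩
      (fun h0 => hd0 (congrArg Subtype.val h0 :))
      ⟨⟨⟨d, hle hdB'⟩, ⟨d⁻¹, hdC⟩, Subtype.ext (mul_inv_cancel₀ hd0),
        Subtype.ext (inv_mul_cancel₀ hd0)⟩, rfl⟩ ?_ hC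
    intro y
    suffices hs' : ∃ N : ℕ, d ^ N * (y : M) ∈ B' by
      obtain ⟨N, hN⟩ := hs'
      exact ⟨N, ⟨_, hN⟩, Subtype.ext (by simp [RingHom.algebraMap_toAlgebra])⟩
    refine Algebra.adjoin_induction (p := fun z _ => ∃ N : ℕ, d ^ N * z ∈ B') ?_ ?_ ?_ ?_ y.2
    · rintro w ((hw | hw) | hw)
      · exact ⟨0, by rw [pow_zero, one_mul]; exact Algebra.subset_adjoin (Or.inr hw)⟩
      · refine ⟨1, ?_⟩
        rw [pow_one, show d = (∏ z ∈ sM.erase w, den z) * den w from
          (Finset.prod_erase_mul _ _ hw).symm, mul_assoc, mul_comm (den w), hmul w hw]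
        exact mul_mem (prod_mem fun z hz => hsub (hden z (Finset.mem_of_mem_erase hz)))
          (hsub (hnum w hw))
      · rcases Finset.mem_insert.1 hw with rfl | hw
        · exact ⟨1, by rw [pow_one, mul_inv_cancel₀ hd0]; exact one_mem _⟩
        · exact ⟨0, by rw [pow_zero, one_mul]; exact Algebra.subset_adjoin (Or.inl hw)⟩
    · exact fun a => ⟨0, by rw [pow_zero, one_mul]; exact Subalgebra.algebraMap_mem _ a⟩
    · rintro a c - - ⟨N, ha⟩ ⟨N', hc⟩
      refine ⟨N + N', ?_⟩
      rw [show d ^ (N + N') * (a + c) = d ^ N' * (d ^ N * a) + d ^ N * (d ^ N' * c) by ring]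
      exact add_mem (mul_mem (pow_mem hdB' _) ha) (mul_mem (pow_mem hdB' _) hc)
    · rintro a c - - ⟨N, ha⟩ ⟨N', hc⟩
      refine ⟨N + N', ?_⟩
      rw [show d ^ (N + N') * (a * c) = (d ^ N * a) * (d ^ N' * c) by ring]
      exact mul_mem ha hc
  haveI : Algebra.FiniteType A B'' :=
    (Subalgebra.fg_iff_finiteType _).1 (Subalgebra.fg_adjoin_finset b)
  haveI : IsNoetherianRing B'' := Algebra.FiniteType.isNoetherianRing A B''
  let B₁ := Algebra.adjoin B'' κ
  haveI : Module.Finite B'' B₁ := Module.Finite.iff_fg.2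
    (fg_adjoin_of_finite hκf fun k hk => (hκi k hk).tower_top)
  have hB₁ : GenReg B₁ := genReg_of_ringEquiv
    (Subalgebra.equivOfEq _ (B₁.restrictScalars A)
      (Algebra.adjoin_union_eq_adjoin_adjoin A (b : Set M) κ)).toRingEquiv hB'
  have hB'' : GenReg B'' :=
    genReg_of_finite (S := B₁) (fun x y h => Subtype.ext (congrArg Subtype.val h :)) hB₁
  exact genReg_of_ringEquiv
    ((AlgEquiv.ofInjective ψ hψ).trans (Subalgebra.equivOfEq _ _ hbrange.symm)).symm.toRingEquiv hB''

theorem isJ2_of_finite [IsNoetherianRing A]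
    (H : ∀ (A' : Type u) [CommRing A'] [IsDomain A'] [Algebra A A'], Module.Finite A A' →
      ∃ U : Set (PrimeSpectrum A'), IsOpen U ∧ U.Nonempty ∧ U ⊆ EGA4.regLocus A') :
    EGA4.IsJ2 A := by
  intro S _ _ hS
  haveI := hS
  haveI : IsNoetherianRing S := Algebra.FiniteType.isNoetherianRing A S
  refine isOpen_regLocus_of_generic fun p hp => ?_
  haveI := hp
  haveI : Algebra.FiniteType A (S ⧸ p) :=
    Algebra.FiniteType.of_surjective (Ideal.Quotient.mkₐ A p) Ideal.Quotient.mk_surjective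
  exact (genReg_of_finiteType H (S ⧸ p)).exists_isOpen

end Groth.Agent.J2Lib
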