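import Groth.Agent.RegularSerre.Localization
import Groth.Prelude.Def_EGA4b

/-!
# A criterion for the openness of the regular locus
-/

set_option autoImplicit false

universe u

namespace Groth.Agent.J2Lib

open IsLocalRing EGA4

variable {R : Type u} [CommRing R]

theorem mem_regLocus_iff {p : PrimeSpectrum R} :
    p ∈ regLocus R ↔ IsRegularLocalRing (Localization.AtPrime p.asIdeal) := Iff.rfl

/-- The regular locus is stable under generalisation. -/
theorem mem_regLocus_of_le {p q : PrimeSpectrum R} (h : p ≤ q) (hq : q ∈ regLocus R) :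
    p ∈ regLocus R := by
  rw [mem_regLocus_iff] at hq ⊢
  let Rq := Localization.AtPrime q.asIdeal
  have := hq
  have := RegularSerre.isRegularRing_of_isRegularLocalRing Rq
  have hdisj : Disjoint (q.asIdeal.primeCompl : Set R) (p.asIdeal : Set R) :=
    Set.disjoint_left.2 fun x hx hx' => hx (h hx')
  let P := p.asIdeal.map (algebraMap R Rq)
  have hP : P.IsPrime := IsLocalization.isPrime_of_isPrime_disjoint _ Rq _ p.isPrime hdisj
  have hcomap : P.comap (algebraMap R Rq) = p.asIdeal :=
    IsLocalization.under_map_of_isPrime_disjoint q.asIdeal.primeCompl Rq p.isPrime hdisj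
  haveI : IsLocalization.AtPrime (Localization.AtPrime P) p.asIdeal := by
    convert IsLocalization.isLocalization_isLocalization_atPrime_isLocalization q.asIdeal.primeCompl
      (Localization.AtPrime P) P
    exact hcomap.symm
  haveI : IsRegularLocalRing (Localization.AtPrime P) :=
    IsRegularRing.isRegularLocalRing_localization P
  exact IsRegularLocalRing.of_ringEquiv (IsLocalization.algEquiv p.asIdeal.primeCompl
    (Localization.AtPrime P) (Localization.AtPrime p.asIdeal)).toRingEquiv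

variable [IsNoetherianRing R]

/-- Generators of the maximal ideal of a localisation, with numerators. -/
theorem exists_numerators (p : Ideal R) [p.IsPrime] :
    ∃ f : Fin (maximalIdeal (Localization.AtPrime p)).spanFinrank → R,
      (∀ i, f i ∈ p) ∧ ∀ x ∈ p, ∃ s ∉ p, s * x ∈ Ideal.span (Set.range f) := by
  classical
  let Rp := Localization.AtPrime p
  obtain ⟨t, ht, hspan⟩ := Submodule.FG.exists_span_finset_card_eq_spanFinrank
    (IsNoetherian.noetherian (maximalIdeal Rp))
  let g : Fin (maximalIdeal Rp).spanFinrank → Rp := fun i => (t.equivFin.symm (i.cast ht.symm) : Rp)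
  have hg : Ideal.span (Set.range g) = maximalIdeal Rp := by
    rw [show Set.range g = (t : Set Rp) from ?_]
    · exact hspan
    · refine Set.ext fun y => ⟨fun ⟨i, hi⟩ => hi ▸ Finset.coe_mem _, fun hy => ?_⟩
      exact ⟨(t.equivFin ⟨y, hy⟩).cast ht, by simp [g]⟩
  choose as has using fun i => IsLocalization.surj p.primeCompl (g i)
  refine ⟨fun i => (as i).1, fun i => ?_, fun x hx => ?_⟩
  · rw [← IsLocalization.AtPrime.to_map_mem_maximal_iff Rp p, ← has i]
    exact Ideal.mul_mem_right _ _ (hg ▸ Ideal.subset_span ⟨i, rfl⟩)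
  · have h1 : algebraMap R Rp x ∈ (Ideal.span (Set.range fun i => (as i).1)).map (algebraMap R Rp) := by
      have h2 : maximalIdeal Rp ≤
          (Ideal.span (Set.range fun i => (as i).1)).map (algebraMap R Rp) := by
        refine hg.symm.trans_le (Ideal.span_le.2 ?_)
        rintro _ ⟨i, rfl⟩
        exact (Ideal.mul_unit_mem_iff_mem _ (IsLocalization.map_units Rp (as i).2)).1
          ((has i).symm ▸ Ideal.mem_map_of_mem _ (Ideal.subset_span ⟨i, rfl⟩))
      exact h2 ((IsLocalization.AtPrime.to_map_mem_maximal_iff Rp p x).2 hx)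
    obtain ⟨s, hs, hs'⟩ := (IsLocalization.algebraMap_mem_map_algebraMap_iff p.primeCompl Rp _ x).1 h1
    exact ⟨s, hs, hs'⟩

/-- Regularity spreads out along `V(p)`. -/
theorem exists_notMem_of_regular_quotient (p : PrimeSpectrum R) (hp : p ∈ regLocus R)
    (U : Set (PrimeSpectrum (R ⧸ p.asIdeal))) (hUo : IsOpen U) (hUne : U.Nonempty)
    (hU : U ⊆ regLocus (R ⧸ p.asIdeal)) :
    ∃ g ∉ p.asIdeal, ∀ q : PrimeSpectrum R, p ≤ q → g ∉ q.asIdeal → q ∈ regLocus R := by
  classical
  haveI : IsRegularLocalRing (Localization.AtPrime p.asIdeal) := hp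
  -- a basic open inside `U`
  obtain ⟨x, hx⟩ := hUne
  obtain ⟨_, ⟨g1, rfl⟩, hxg, hgU⟩ :=
    PrimeSpectrum.isTopologicalBasis_basic_opens.exists_subset_of_mem_open hx hUo
  obtain ⟨g1, rfl⟩ := Ideal.Quotient.mk_surjective g1
  have hg1 : g1 ∉ p.asIdeal := fun h => hxg (by
    rw [Ideal.Quotient.eq_zero_iff_mem.2 h]; exact x.asIdeal.zero_mem)
  -- generators of `p` near `p`
  obtain ⟨f, hfp, hf⟩ := exists_numerators p.asIdeal
  obtain ⟨T, hT⟩ := IsNoetherian.noetherian p.asIdeal
  choose! σ hσ hσf using hf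
  have hmemT : ∀ y ∈ T, y ∈ p.asIdeal := fun y hy => hT ▸ Submodule.subset_span hy
  let g0 := ∏ y ∈ T, σ y
  have hg0 : g0 ∉ p.asIdeal := by
    intro h
    obtain ⟨y, hy, hy'⟩ := (Ideal.IsPrime.prod_mem_iff (p := p.asIdeal)).1 h
    exact hσ y (hmemT y hy) hy'
  have hg0f : ∀ z ∈ p.asIdeal, g0 * z ∈ Ideal.span (Set.range f) := by
    intro z hz
    rw [← hT] at hz
    refine Submodule.span_induction ?_ (by simp) (fun a b _ _ ha hb => by rw [mul_add]; exact add_mem ha hb)
      (fun c a _ ha => by rw [smul_eq_mul, mul_left_comm]; exact Ideal.mul_mem_left _ c ha) hz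
    intro y hy
    obtain ⟨w, hw⟩ := Finset.dvd_prod_of_mem σ hy
    show (∏ y ∈ T, σ y) * y ∈ _
    rw [hw, mul_right_comm]
    exact Ideal.mul_mem_right _ _ (hσf y (hmemT y hy))
  refine ⟨g0 * g1, fun h => (p.isPrime.mem_or_mem h).elim hg0 hg1, fun q hpq hq => ?_⟩
  let π := Ideal.Quotient.mk p.asIdeal
  have hker : RingHom.ker π ≤ q.asIdeal := by rw [Ideal.mk_ker]; exact hpq
  haveI hqb : (q.asIdeal.map π).IsPrime :=
    Ideal.map_isPrime_of_surjective Ideal.Quotient.mk_surjective hker
  have hmemq : ∀ z, π z ∈ q.asIdeal.map π ↔ z ∈ q.asIdeal := fun z => by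
    rw [← Ideal.mem_comap, Ideal.comap_map_of_surjective _ Ideal.Quotient.mk_surjective,
      ← RingHom.ker_eq_comap_bot, sup_eq_left.2 hker]
  have hqU : (⟨q.asIdeal.map π, hqb⟩ : PrimeSpectrum (R ⧸ p.asIdeal)) ∈ U :=
    hgU fun h => hq (Ideal.mul_mem_left _ _ ((hmemq g1).1 h))
  haveI : IsRegularLocalRing (Localization.AtPrime (q.asIdeal.map π)) := hU hqU
  obtain ⟨ybar, hybar, hyspan⟩ := exists_numerators (q.asIdeal.map π)
  choose y hy using fun i => Ideal.Quotient.mk_surjective (ybar i)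
  rw [mem_regLocus_iff]
  set Rq := Localization.AtPrime q.asIdeal
  let r := (maximalIdeal (Localization.AtPrime p.asIdeal)).spanFinrank
  let e := (maximalIdeal (Localization.AtPrime (q.asIdeal.map π))).spanFinrank
  let gens : Fin r ⊕ Fin e → Rq := fun i => algebraMap R Rq (Sum.elim f y i)
  have hmax : maximalIdeal Rq ≤ Ideal.span (Set.range gens) := by
    rw [← Localization.AtPrime.map_eq_maximalIdeal, Ideal.map_le_iff_le_comap]
    intro z hz
    obtain ⟨sbar, hs, hsz⟩ := hyspan (π z) ((hmemq z).2 hz)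
    obtain ⟨s, rfl⟩ := Ideal.Quotient.mk_surjective sbar
    rw [← map_mul, ← funext hy, Set.range_comp' (Ideal.Quotient.mk p.asIdeal) y, ← Ideal.map_span] at hsz
    obtain ⟨w, hw, hwz⟩ := (Ideal.mem_map_iff_of_surjective π Ideal.Quotient.mk_surjective).1 hsz
    have hdiff : g0 * (s * z - w) ∈ Ideal.span (Set.range f) := hg0f _ (Ideal.Quotient.eq.1 hwz.symm)
    have hmem : g0 * s * z ∈ Ideal.span (Set.range (Sum.elim f y)) := by
      rw [show g0 * s * z = g0 * (s * z - w) + g0 * w by ring]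
      refine add_mem (Ideal.span_mono ?_ hdiff) (Ideal.mul_mem_left _ _ (Ideal.span_mono ?_ hw))
      · rintro _ ⟨i, rfl⟩; exact ⟨Sum.inl i, rfl⟩
      · rintro _ ⟨i, rfl⟩; exact ⟨Sum.inr i, rfl⟩
    have hunit : IsUnit (algebraMap R Rq (g0 * s)) := by
      refine IsLocalization.map_units Rq (⟨g0 * s, fun h => ?_⟩ : q.asIdeal.primeCompl)
      rcases q.isPrime.mem_or_mem h with h | h
      · exact hq (Ideal.mul_mem_right _ _ h)
      · exact hs ((hmemq s).2 h)
    have h2 := Ideal.mem_map_of_mem (algebraMap R Rq) hmem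
    rw [map_mul, Ideal.map_span, ← Set.range_comp] at h2
    rw [Ideal.mem_comap]
    exact (Ideal.unit_mul_mem_iff_mem _ hunit).1 h2
  have hmax' : Ideal.span (Set.range gens) = maximalIdeal Rq := by
    refine le_antisymm (Ideal.span_le.2 ?_) hmax
    rintro _ ⟨i, rfl⟩
    refine (IsLocalization.AtPrime.to_map_mem_maximal_iff Rq q.asIdeal _).2 ?_
    cases i with
    | inl i => exact hpq (hfp i)
    | inr i => exact (hmemq (y i)).1 (by have := hybar i; rwa [← hy i] at this)
  have hcard : (maximalIdeal Rq).spanFinrank ≤ r + e := by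
    rw [← hmax']
    refine (Submodule.spanFinrank_span_le_ncard_of_finite (Set.finite_range gens)).trans ?_
    rw [← Set.image_univ]
    refine (Set.ncard_image_le Set.finite_univ).trans ?_
    simp
  -- a long chain of primes below `q`
  have hr : ringKrullDim (Localization.AtPrime p.asIdeal) = (r : WithBot ℕ∞) :=
    IsRegularLocalRing.spanFinrank_maximalIdeal.symm
  have he : ringKrullDim (Localization.AtPrime (q.asIdeal.map π)) = (e : WithBot ℕ∞) :=
    IsRegularLocalRing.spanFinrank_maximalIdeal.symm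
  rw [IsLocalization.AtPrime.ringKrullDim_eq_height p.asIdeal,
    PrimeSpectrum.height_eq_orderHeight p] at hr
  rw [IsLocalization.AtPrime.ringKrullDim_eq_height (q.asIdeal.map π),
    PrimeSpectrum.height_eq_orderHeight ⟨_, hqb⟩] at he
  have hr' : Order.height p = (r : ℕ∞) := WithBot.coe_injective hr
  have he' : Order.height (⟨_, hqb⟩ : PrimeSpectrum (R ⧸ p.asIdeal)) = (e : ℕ∞) :=
    WithBot.coe_injective he
  obtain ⟨l1, hl1, hl1e⟩ := Order.exists_series_of_le_height p hr'.ge
  obtain ⟨l2, hl2, hl2e⟩ := Order.exists_series_of_le_height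
    (⟨_, hqb⟩ : PrimeSpectrum (R ⧸ p.asIdeal)) he'.ge
  let l3 := l2.map (PrimeSpectrum.comap π) fun a b hab =>
    lt_of_le_of_ne (Ideal.comap_mono hab.le) fun h =>
      hab.ne (PrimeSpectrum.comap_injective_of_surjective π Ideal.Quotient.mk_surjective h)
  have hl3 : l3.last = q := by
    simp only [l3, LTSeries.last_map, hl2]
    refine PrimeSpectrum.ext ?_
    exact (Ideal.comap_map_of_surjective _ Ideal.Quotient.mk_surjective _).trans
      (sup_eq_left.2 ((RingHom.ker_eq_comap_bot π).symm.trans_le hker))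
  have hjoin : p ≤ l3.head := by
    intro z hz
    simp only [l3, LTSeries.head_map]
    show π z ∈ l2.head.asIdeal
    rw [Ideal.Quotient.eq_zero_iff_mem.2 hz]
    exact l2.head.asIdeal.zero_mem
  have hht : ((r + e : ℕ) : ℕ∞) ≤ Order.height q := by
    rcases eq_or_lt_of_le hjoin with h | h
    · have := Order.length_le_height (p := l1.smash l3 (hl1.trans h))
        (x := q) (by rw [RelSeries.last_smash, hl3])
      simpa [l3, hl1e, hl2e] using this
    · have := Order.length_le_height (p := l1.append l3 (hl1.symm ▸ h))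
        (x := q) (by rw [RelSeries.last_append, hl3])
      refine le_trans ?_ this
      simp only [RelSeries.append_length, l3, LTSeries.map_length, hl1e, hl2e]
      exact_mod_cast Nat.le_succ _
  refine IsRegularLocalRing.of_spanFinrank_maximalIdeal_le Rq ?_
  rw [IsLocalization.AtPrime.ringKrullDim_eq_height q.asIdeal, PrimeSpectrum.height_eq_orderHeight q,
    ← WithBot.coe_natCast, WithBot.coe_le_coe]
  exact le_trans (by exact_mod_cast hcard) hht

/-- Nagata's criterion. -/
theorem isOpen_regLocus_of_generic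
    (h : ∀ p : Ideal R, p.IsPrime →
      ∃ U : Set (PrimeSpectrum (R ⧸ p)), IsOpen U ∧ U.Nonempty ∧ U ⊆ regLocus (R ⧸ p)) :
    IsOpen (regLocus R) := by
  classical
  rw [← isClosed_compl_iff, PrimeSpectrum.isClosed_iff_zeroLocus_ideal]
  set E := regLocus R
  let J := PrimeSpectrum.vanishingIdeal Eᶜ
  refine ⟨J, subset_antisymm (PrimeSpectrum.subset_zeroLocus_vanishingIdeal _) fun x hx hxE => ?_⟩
  obtain ⟨P, hP, hPx⟩ := Ideal.exists_minimalPrimes_le (show J ≤ x.asIdeal from hx)
  haveI := hP.1.1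
  have hPE : (⟨P, hP.1.1⟩ : PrimeSpectrum R) ∈ E := mem_regLocus_of_le hPx hxE
  obtain ⟨U, hUo, hUne, hU⟩ := h P hP.1.1
  obtain ⟨g, hg, hgE⟩ := exists_notMem_of_regular_quotient ⟨P, hP.1.1⟩ hPE U hUo hUne hU
  let S := (J.finite_minimalPrimes_of_isNoetherianRing).toFinset.erase P
  have hS : ∀ P' ∈ S, ∃ a ∈ P', a ∉ P := fun P' hP' => by
    obtain ⟨hne, hmem⟩ := Finset.mem_erase.1 hP'
    rw [Set.Finite.mem_toFinset] at hmem
    exact Set.not_subset.1 fun hle => hne (le_antisymm hle (hP.2 ⟨hmem.1.1, hmem.1.2⟩ hle))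
  choose! a ha ha' using hS
  have hprod : g * ∏ P' ∈ S, a P' ∈ J := by
    refine (PrimeSpectrum.mem_vanishingIdeal _ _).2 fun z hz => ?_
    by_cases hgz : g ∈ z.asIdeal
    · exact Ideal.mul_mem_right _ _ hgz
    have hnP : ¬ P ≤ z.asIdeal := fun hle => hz (hgE z hle hgz)
    obtain ⟨P', hP', hP'z⟩ :=
      Ideal.exists_minimalPrimes_le (show J ≤ z.asIdeal from fun w hw =>
        (PrimeSpectrum.mem_vanishingIdeal _ _).1 hw z hz)
    have hS' : P' ∈ S := Finset.mem_erase.2 ⟨fun he => hnP (he ▸ hP'z), by simpa using hP'⟩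
    obtain ⟨w, hw⟩ := Finset.dvd_prod_of_mem a hS'
    rw [hw]
    exact Ideal.mul_mem_left _ _ (Ideal.mul_mem_right _ _ (hP'z (ha P' hS')))
  rcases hP.1.1.mem_or_mem (hP.1.2 hprod) with h1 | h1
  · exact hg h1
  · obtain ⟨P', hP', hP''⟩ := (Ideal.IsPrime.prod_mem_iff (p := P)).1 h1
    exact ha' P' hP' hP''

end Groth.Agent.J2Lib
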