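import Groth.Agent.DepthLib.RegularQuotient
import Groth.Agent.J2Lib.Descent
import Groth.Agent.J2Lib.Criterion
import Mathlib.RingTheory.RegularLocalRing.Polynomial
import Mathlib.RingTheory.Spectrum.Prime.FreeLocus

/-!
# Generic regularity
-/

set_option autoImplicit false

universe u

namespace Groth.Agent.J2Lib

open Polynomial IsLocalRing EGA4

/-- The ring is regular on a nonempty basic open. -/
def GenReg (R : Type u) [CommRing R] : Prop :=
  ∃ c : R, c ≠ 0 ∧ ∀ q : PrimeSpectrum R, c ∉ q.asIdeal → q ∈ regLocus R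

variable {R S : Type u} [CommRing R] [CommRing S]

theorem genReg_of_ringEquiv (e : R ≃+* S) (h : GenReg R) : GenReg S := by
  obtain ⟨c, hc, h⟩ := h
  refine ⟨e c, fun he => hc (e.injective (by rw [he, map_zero])), fun q hq => ?_⟩
  haveI : IsRegularLocalRing (Localization.AtPrime (q.asIdeal.comap e)) :=
    h ⟨q.asIdeal.comap e, inferInstance⟩ (fun hmem => hq hmem)
  exact IsRegularLocalRing.of_ringEquiv <| IsLocalization.ringEquivOfRingEquiv
    (Localization.AtPrime (q.asIdeal.comap e)) (Localization.AtPrime q.asIdeal) e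
    (e.map_primeCompl_comap_eq q.asIdeal)

theorem genReg_of_isOpen [IsDomain R] {U : Set (PrimeSpectrum R)} (hUo : IsOpen U)
    (hUne : U.Nonempty) (hU : U ⊆ regLocus R) : GenReg R := by
  obtain ⟨x, hx⟩ := hUne
  obtain ⟨_, ⟨g, rfl⟩, hxg, hgU⟩ :=
    PrimeSpectrum.isTopologicalBasis_basic_opens.exists_subset_of_mem_open hx hUo
  exact ⟨g, fun h => hxg (h ▸ x.asIdeal.zero_mem), fun q hq => hU (hgU hq)⟩

theorem GenReg.exists_isOpen [IsDomain R] (h : GenReg R) :
    ∃ U : Set (PrimeSpectrum R), IsOpen U ∧ U.Nonempty ∧ U ⊆ regLocus R := by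
  obtain ⟨c, hc, h⟩ := h
  exact ⟨PrimeSpectrum.basicOpen c, (PrimeSpectrum.basicOpen c).2,
    ⟨⟨⊥, Ideal.isPrime_bot⟩, fun hmem => hc ((Submodule.mem_bot R).1 hmem)⟩, fun q hq => h q hq⟩

/-- Localisations of a localisation are localisations. -/
theorem mem_regLocus_iff_of_isLocalization (M : Submonoid R) [Algebra R S] [IsLocalization M S]
    (P : PrimeSpectrum S) :
    P ∈ regLocus S ↔ P.comap (algebraMap R S) ∈ regLocus R := by
  haveI : IsLocalization.AtPrime (Localization.AtPrime P.asIdeal) (P.asIdeal.comap (algebraMap R S)) :=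
    IsLocalization.isLocalization_isLocalization_atPrime_isLocalization M
      (Localization.AtPrime P.asIdeal) P.asIdeal
  let e := IsLocalization.algEquiv (P.asIdeal.comap (algebraMap R S)).primeCompl
    (Localization.AtPrime P.asIdeal) (Localization.AtPrime (P.asIdeal.comap (algebraMap R S)))
  constructor
  · intro h
    haveI : IsRegularLocalRing (Localization.AtPrime P.asIdeal) := h
    exact IsRegularLocalRing.of_ringEquiv e.toRingEquiv
  · intro h
    haveI : IsRegularLocalRing (Localization.AtPrime (P.asIdeal.comap (algebraMap R S))) := h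
    exact IsRegularLocalRing.of_ringEquiv e.toRingEquiv.symm

theorem exists_prime_of_notMem (c : R) [Algebra R S] [IsLocalization.Away c S]
    (q : PrimeSpectrum R) (hq : c ∉ q.asIdeal) :
    ∃ P : PrimeSpectrum S, P.comap (algebraMap R S) = q := by
  have hd : Disjoint (Submonoid.powers c : Set R) (q.asIdeal : Set R) :=
    Set.disjoint_left.2 fun x hn hx => by
      obtain ⟨n, rfl⟩ := hn
      exact hq (q.isPrime.mem_of_pow_mem n hx)
  exact ⟨⟨_, IsLocalization.isPrime_of_isPrime_disjoint _ S _ q.isPrime hd⟩,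
    PrimeSpectrum.ext (IsLocalization.under_map_of_isPrime_disjoint _ S q.isPrime hd)⟩

/-- A regular localisation away from an element gives generic regularity. -/
theorem mem_regLocus_of_away (c : R) [Algebra R S] [IsLocalization.Away c S] [IsRegularRing S]
    (q : PrimeSpectrum R) (hq : c ∉ q.asIdeal) : q ∈ regLocus R := by
  obtain ⟨P, rfl⟩ := exists_prime_of_notMem (S := S) c q hq
  exact (mem_regLocus_iff_of_isLocalization (Submonoid.powers c) P).1
    (IsRegularRing.isRegularLocalRing_localization P.asIdeal)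

theorem isRegularRing_away [IsNoetherianRing R] (c : R)
    (h : ∀ q : PrimeSpectrum R, c ∉ q.asIdeal → q ∈ regLocus R) :
    IsRegularRing (Localization.Away c) := by
  rw [isRegularRing_iff]
  intro P hP
  refine (mem_regLocus_iff_of_isLocalization (Submonoid.powers c) ⟨P, hP⟩).2 (h _ fun hmem => ?_)
  exact hP.ne_top (Ideal.eq_top_of_isUnit_mem _ hmem
    (IsLocalization.Away.algebraMap_isUnit c))

theorem mem_regLocus_polynomial [IsNoetherianRing R] (c : R)
    (h : ∀ q : PrimeSpectrum R, c ∉ q.asIdeal → q ∈ regLocus R)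
    (Q : PrimeSpectrum R[X]) (hQ : C c ∉ Q.asIdeal) : Q ∈ regLocus R[X] := by
  haveI := isRegularRing_away c h
  letI : Algebra R[X] (Localization.Away c)[X] := Polynomial.algebra R (Localization.Away c)
  haveI : IsLocalization ((Submonoid.powers c).map C) (Localization.Away c)[X] :=
    Polynomial.isLocalization _ _
  haveI : IsLocalization.Away (C c) (Localization.Away c)[X] := by
    rwa [Submonoid.map_powers] at this
  exact mem_regLocus_of_away (S := (Localization.Away c)[X]) (C c) Q hQ

theorem genReg_mvPolynomial [IsNoetherianRing R] [IsDomain R] (ι : Type u) [Finite ι]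
    (h : GenReg R) : GenReg (MvPolynomial ι R) := by
  obtain ⟨c, hc, h⟩ := h
  haveI := isRegularRing_away c h
  letI : Algebra (MvPolynomial ι R) (MvPolynomial ι (Localization.Away c)) :=
    MvPolynomial.algebraMvPolynomial
  haveI : IsLocalization ((Submonoid.powers c).map (MvPolynomial.C (σ := ι)))
      (MvPolynomial ι (Localization.Away c)) :=
    MvPolynomial.isLocalization _ _
  haveI : IsLocalization.Away (MvPolynomial.C (σ := ι) c) (MvPolynomial ι (Localization.Away c)) := by
    rwa [Submonoid.map_powers] at this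
  exact ⟨MvPolynomial.C c, by simpa using hc,
    fun q hq => mem_regLocus_of_away (S := MvPolynomial ι (Localization.Away c)) _ q hq⟩

/-- Adjoining a separable element. -/
theorem genReg_separable [IsNoetherianRing R] [IsDomain R] [IsDomain S] (h : GenReg R)
    (φ : R[X] →+* S) (hφ : Function.Surjective φ) (hinj : Function.Injective (φ.comp C))
    (g : R[X]) (hg : φ g = 0) (hg' : φ (derivative g) ≠ 0) : GenReg S := by
  classical
  haveI : IsNoetherianRing R[X] := inferInstance
  have hg0 : g ≠ 0 := fun h0 => hg' (by rw [h0, derivative_zero, map_zero])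
  have hex : ∃ n, ∃ f : R[X], f ≠ 0 ∧ φ f = 0 ∧ f.natDegree = n := ⟨_, g, hg0, hg, rfl⟩
  obtain ⟨f, hf0, hφf, hdeg⟩ := Nat.find_spec hex
  have hmin : ∀ k : R[X], φ k = 0 → k.natDegree < f.natDegree → k = 0 := fun k hk hlt => by
    by_contra hk0
    exact Nat.find_min hex (hdeg ▸ hlt) ⟨k, hk0, hk, rfl⟩
  set d := f.leadingCoeff
  have hd : d ≠ 0 := leadingCoeff_ne_zero.2 hf0
  have hdiv : ∀ k : R[X], φ k = 0 → ∃ N, C d ^ N * k ∈ Ideal.span {f} := by
    intro k
    induction hn : k.natDegree using Nat.strong_induction_on generalizing k with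
    | _ n ih =>
      intro hk
      by_cases hlt : k.natDegree < f.natDegree
      · exact ⟨0, by simp [hmin k hk hlt]⟩
      push Not at hlt
      set k' := C d * k - C k.leadingCoeff * (X ^ (k.natDegree - f.natDegree) * f) with hk'
      have hk'0 : φ k' = 0 := by simp [hk', hk, hφf]
      have hrel : C d * k = k' + C k.leadingCoeff * (X ^ (k.natDegree - f.natDegree) * f) := by
        rw [hk']; ring
      have hmem : C k.leadingCoeff * (X ^ (k.natDegree - f.natDegree) * f) ∈ Ideal.span {f} :=
        Ideal.mul_mem_left _ _ (Ideal.mul_mem_left _ _ (Ideal.mem_span_singleton_self f))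
      by_cases hz : k' = 0
      · exact ⟨1, by rw [pow_one, hrel, hz, zero_add]; exact hmem⟩
      have hlt' : k'.natDegree < n := by
        rw [← hn]
        refine lt_of_le_of_ne ?_ fun he => hz ?_
        · refine (natDegree_sub_le _ _).trans (max_le (natDegree_C_mul_le _ _) ?_)
          refine (natDegree_C_mul_le _ _).trans (natDegree_mul_le.trans ?_)
          rw [natDegree_X_pow]
          omega
        · rw [← leadingCoeff_eq_zero, leadingCoeff, he, hk', coeff_sub, coeff_C_mul, coeff_C_mul,
            coeff_X_pow_mul', if_pos (Nat.sub_le _ _), Nat.sub_sub_self hlt]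
          show d * k.leadingCoeff - k.leadingCoeff * d = 0
          ring
      obtain ⟨N, hN⟩ := ih _ hlt' k' rfl hk'0
      refine ⟨N + 1, ?_⟩
      rw [pow_succ, mul_assoc, hrel, mul_add]
      exact add_mem hN (Ideal.mul_mem_left _ _ hmem)
  have hf' : φ (derivative f) ≠ 0 := by
    intro h0
    obtain ⟨N, hN⟩ := hdiv g hg
    obtain ⟨h', hh'⟩ := Ideal.mem_span_singleton.1 hN
    have h1 := congrArg (fun k => φ (derivative k)) hh'
    rw [← map_pow] at h1
    simp only [derivative_mul, derivative_C, zero_mul, zero_add, map_add, map_mul, hφf, h0] at h1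
    rcases mul_eq_zero.1 h1 with h2 | h2
    · exact pow_ne_zero N hd (hinj (by rw [RingHom.comp_apply, map_zero]; exact h2))
    · exact hg' h2
  obtain ⟨c, hc, hreg⟩ := h
  refine ⟨φ (C c * C d * derivative f), ?_, fun q hq => ?_⟩
  · rw [map_mul, map_mul]
    refine mul_ne_zero (mul_ne_zero ?_ ?_) hf'
    · exact fun h0 => hc (hinj (by rw [RingHom.comp_apply, map_zero]; exact h0))
    · exact fun h0 => hd (hinj (by rw [RingHom.comp_apply, map_zero]; exact h0))
  let Q : PrimeSpectrum R[X] := q.comap φ
  have hQc : C c ∉ Q.asIdeal := fun h0 => hq (by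
    rw [map_mul, map_mul]; exact Ideal.mul_mem_right _ _ (Ideal.mul_mem_right _ _ h0))
  have hQd : C d ∉ Q.asIdeal := fun h0 => hq (by
    rw [map_mul, map_mul]; exact Ideal.mul_mem_right _ _ (Ideal.mul_mem_left _ _ h0))
  have hQf' : derivative f ∉ Q.asIdeal := fun h0 => hq (by
    rw [map_mul]; exact Ideal.mul_mem_left _ _ h0)
  haveI : IsRegularLocalRing (Localization.AtPrime Q.asIdeal) :=
    mem_regLocus_polynomial c hreg Q hQc
  set T := Localization.AtPrime Q.asIdeal
  have hfQ : f ∈ Q.asIdeal := by show φ f ∈ q.asIdeal; rw [hφf]; exact q.asIdeal.zero_mem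
  have hfm : algebraMap R[X] T f ∈ maximalIdeal T :=
    (IsLocalization.AtPrime.to_map_mem_maximal_iff T Q.asIdeal f).2 hfQ
  have hfm2 : algebraMap R[X] T f ∉ maximalIdeal T ^ 2 := by
    intro hf2
    rw [← Localization.AtPrime.map_eq_maximalIdeal, ← Ideal.map_pow] at hf2
    obtain ⟨s, hs, hsf⟩ :=
      (IsLocalization.algebraMap_mem_map_algebraMap_iff Q.asIdeal.primeCompl T _ f).1 hf2
    have hD : ∀ a ∈ Q.asIdeal ^ 2, derivative a ∈ Q.asIdeal := by
      intro a ha
      rw [pow_two] at ha
      refine Submodule.mul_induction_on ha (fun m hm n hn => ?_) (fun x y hx hy => ?_)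
      · rw [derivative_mul]
        exact add_mem (Ideal.mul_mem_left _ _ hn) (Ideal.mul_mem_right _ _ hm)
      · rw [derivative_add]; exact add_mem hx hy
    have h1 := hD _ hsf
    rw [derivative_mul, Submodule.add_mem_iff_right _ (Ideal.mul_mem_left _ _ hfQ)] at h1
    exact (Q.isPrime.mem_or_mem h1).elim hs hQf'
  obtain ⟨n, hn⟩ : ∃ n, (maximalIdeal T).spanFinrank = n + 1 := by
    refine ⟨_, (Nat.succ_pred_eq_of_ne_zero fun h0 => hfm2 ?_).symm⟩
    rw [Submodule.spanFinrank_eq_zero_iff_eq_bot (IsNoetherian.noetherian _)] at h0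
    rw [h0, Ideal.mem_bot] at hfm
    rw [hfm]
    exact Ideal.zero_mem _
  obtain ⟨hTf, -⟩ := DepthLib.isRegularLocalRing_quotient_singleton hn hfm hfm2
  let ψ : T →+* Localization.AtPrime q.asIdeal := Localization.localRingHom Q.asIdeal q.asIdeal φ rfl
  have hψ : Function.Surjective ψ := by
    intro y
    obtain ⟨a, s, rfl⟩ := IsLocalization.exists_mk'_eq q.asIdeal.primeCompl y
    obtain ⟨a', rfl⟩ := hφ a
    obtain ⟨s', hs'⟩ := hφ s
    refine ⟨IsLocalization.mk' T a' (⟨s', fun h0 => s.2 (hs' ▸ h0)⟩ : Q.asIdeal.primeCompl), ?_⟩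
    rw [Localization.localRingHom_mk']
    congr 1
    exact Subtype.ext hs'
  have hker : RingHom.ker ψ = Ideal.span {algebraMap R[X] T f} := by
    refine le_antisymm (fun y hy => ?_) ((Ideal.span_singleton_le_iff_mem _).2 ?_)
    · obtain ⟨k, s, rfl⟩ := IsLocalization.exists_mk'_eq Q.asIdeal.primeCompl y
      rw [RingHom.mem_ker, Localization.localRingHom_mk', IsLocalization.mk'_eq_zero_iff] at hy
      obtain ⟨t, ht⟩ := hy
      have hφk : φ k = 0 :=
        (mul_eq_zero.1 ht).resolve_left fun h0 => t.2 (h0 ▸ q.asIdeal.zero_mem)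
      obtain ⟨N, hN⟩ := hdiv k hφk
      rw [IsLocalization.mk'_mem_iff]
      have h2 := Ideal.mem_map_of_mem (algebraMap R[X] T) hN
      rw [map_mul, map_pow, Ideal.map_span, Set.image_singleton] at h2
      exact (Ideal.unit_mul_mem_iff_mem _
        ((IsLocalization.map_units T (⟨C d, hQd⟩ : Q.asIdeal.primeCompl)).pow N)).1 h2
    · rw [RingHom.mem_ker, Localization.localRingHom_to_map, hφf, map_zero]
  haveI := hTf
  exact IsRegularLocalRing.of_ringEquiv (R := T ⧸ Ideal.span {algebraMap R[X] T f})
    ((Ideal.quotEquivOfEq hker.symm).trans (RingHom.quotientKerEquivOfSurjective hψ))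

/-- Birational extensions. -/
theorem genReg_of_birational [IsDomain R] [IsDomain S] [Algebra R S]
    (hinj : Function.Injective (algebraMap R S)) (d : R) (hd : d ≠ 0)
    (hu : IsUnit (algebraMap R S d))
    (hsurj : ∀ y : S, ∃ (N : ℕ) (a : R), algebraMap R S d ^ N * y = algebraMap R S a)
    (h : GenReg S) : GenReg R := by
  haveI : IsLocalization.Away d S :=
    { map_units := by rintro ⟨_, n, rfl⟩; simpa using hu.pow n
      surj := fun y => by
        obtain ⟨N, a, ha⟩ := hsurj y
        exact ⟨(a, ⟨d ^ N, N, rfl⟩), by rw [mul_comm, ← ha, map_pow]⟩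
      exists_of_eq := fun h => ⟨1, by rw [hinj h]⟩ }
  obtain ⟨c, hc, h⟩ := h
  obtain ⟨N, a, ha⟩ := hsurj c
  refine ⟨d * a, mul_ne_zero hd fun h0 => ?_, fun q hq => ?_⟩
  · rw [h0, map_zero] at ha
    exact hc ((mul_eq_zero.1 ha).resolve_left (hu.pow N).ne_zero)
  obtain ⟨P, rfl⟩ := exists_prime_of_notMem (S := S) d q fun h0 => hq (Ideal.mul_mem_right _ _ h0)
  refine (mem_regLocus_iff_of_isLocalization (Submonoid.powers d) P).1 (h P fun h0 => hq ?_)
  refine Ideal.mul_mem_left _ _ ?_
  show algebraMap R S a ∈ P.asIdeal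
  rw [← ha]
  exact Ideal.mul_mem_left _ _ h0

/-- Descent along finite injective extensions. -/
theorem genReg_of_finite [IsDomain R] [IsNoetherianRing R] [IsDomain S] [Algebra R S]
    [Module.Finite R S] (hinj : Function.Injective (algebraMap R S)) (h : GenReg S) : GenReg R := by
  classical
  haveI : IsNoetherianRing S := IsNoetherianRing.of_finite R S
  haveI : Module.FinitePresentation R S := Module.finitePresentation_of_finite R S
  obtain ⟨c, hc, hreg⟩ := h
  have hgen : (⟨⊥, Ideal.isPrime_bot⟩ : PrimeSpectrum R) ∈ Module.freeLocus R S := by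
    rw [Module.mem_freeLocus]
    have hF : IsField (Localization.AtPrime (⊥ : Ideal R)) := by
      rw [IsLocalRing.isField_iff_maximalIdeal_eq, ← Localization.AtPrime.map_eq_maximalIdeal,
        Ideal.map_bot]
    letI := hF.toField
    exact Module.Free.of_divisionRing _ _
  obtain ⟨_, ⟨g, rfl⟩, hgx, hgU⟩ := PrimeSpectrum.isTopologicalBasis_basic_opens.exists_subset_of_mem_open
    hgen Module.isOpen_freeLocus
  have hg0 : g ≠ 0 := fun h0 => hgx ((Submodule.mem_bot R).2 h0)
  haveI := Module.basicOpen_subset_freeLocus_iff.1 hgU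
  obtain ⟨d, hd, hdc⟩ : ∃ d : R, d ≠ 0 ∧ algebraMap R S d ∈ Ideal.span {c} := by
    have h1 : Ideal.comap (algebraMap R S) (Ideal.span {c}) ≠ ⊥ :=
      Ideal.comap_ne_bot_of_integral_mem (R := R) hc (Ideal.mem_span_singleton_self c)
        (Algebra.IsIntegral.isIntegral c)
    obtain ⟨d, hd, hd'⟩ := Submodule.exists_mem_ne_zero_of_ne_bot h1
    exact ⟨d, hd', hd⟩
  refine ⟨g * d, mul_ne_zero hg0 hd, fun q hq => ?_⟩
  have hgq : g ∉ q.asIdeal := fun h0 => hq (Ideal.mul_mem_right _ _ h0)
  obtain ⟨Q, -, hQprime, hQ⟩ := Ideal.exists_ideal_over_prime_of_isIntegral q.asIdeal (⊥ : Ideal S)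
    (by rw [← RingHom.ker_eq_comap_bot, (RingHom.injective_iff_ker_eq_bot _).1 hinj]; exact bot_le)
  haveI := hQprime
  haveI hlie : Q.LiesOver q.asIdeal := ⟨hQ.symm⟩
  have hcQ : c ∉ Q := fun h0 => hq (Ideal.mul_mem_left _ _ (by
    rw [← hQ, Ideal.mem_comap]
    exact (Ideal.span_singleton_le_iff_mem _).2 h0 hdc))
  haveI : IsRegularLocalRing (Localization.AtPrime Q) := hreg ⟨Q, hQprime⟩ hcQ
  let Sg := Localization.Away (algebraMap R S g)
  haveI hmod : IsLocalizedModule (Submonoid.powers g) (IsScalarTower.toAlgHom R S Sg).toLinearMap := by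
    refine isLocalizedModule_iff_isLocalization.2 ?_
    rw [Algebra.algebraMapSubmonoid, Submonoid.map_powers]
    infer_instance
  haveI : Module.Flat R (LocalizedModule.Away g S) :=
    Module.Flat.trans R (Localization.Away g) (LocalizedModule.Away g S)
  haveI : Module.Flat R Sg :=
    Module.Flat.of_linearEquiv (IsLocalizedModule.iso (Submonoid.powers g)
      (IsScalarTower.toAlgHom R S Sg).toLinearMap).symm
  let SQ := Localization.AtPrime Q
  have hunit : IsUnit (algebraMap S SQ (algebraMap R S g)) :=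
    IsLocalization.map_units SQ (⟨algebraMap R S g, fun h0 => hgq (by rw [← hQ]; exact h0)⟩ : Q.primeCompl)
  letI : Algebra Sg SQ := (IsLocalization.Away.lift (algebraMap R S g) hunit).toAlgebra
  haveI hst : IsScalarTower S Sg SQ := IsScalarTower.of_algebraMap_eq fun x => by
    rw [RingHom.algebraMap_toAlgebra, IsLocalization.Away.lift_eq]
  haveI : IsScalarTower R Sg SQ := IsScalarTower.to₁₃₄ R S Sg SQ
  haveI : IsLocalization (Q.primeCompl.map (algebraMap S Sg)) SQ :=
    IsLocalization.isLocalization_of_submonoid_le Sg SQ (Submonoid.powers (algebraMap R S g))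
      Q.primeCompl (Submonoid.powers_le.2 fun h0 => hgq (by rw [← hQ]; exact h0))
  haveI : Module.Flat Sg SQ := IsLocalization.flat SQ (Q.primeCompl.map (algebraMap S Sg))
  haveI : Module.Flat R SQ := Module.Flat.trans R Sg SQ
  letI : Algebra (Localization.AtPrime q.asIdeal) SQ :=
    (Localization.localRingHom q.asIdeal Q (algebraMap R S) hlie.over).toAlgebra
  haveI : IsScalarTower R (Localization.AtPrime q.asIdeal) SQ :=
    IsScalarTower.of_algebraMap_eq fun x => by
      rw [RingHom.algebraMap_toAlgebra, Localization.localRingHom_to_map,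
        ← IsScalarTower.algebraMap_apply]
  haveI : IsLocalHom (algebraMap (Localization.AtPrime q.asIdeal) SQ) :=
    Localization.isLocalHom_localRingHom q.asIdeal Q (algebraMap R S) hlie.over
  haveI : Module.Flat (Localization.AtPrime q.asIdeal) SQ :=
    (Module.flat_iff_of_isLocalization (Localization.AtPrime q.asIdeal) q.asIdeal.primeCompl SQ).2
      inferInstance
  exact isRegularLocalRing_of_flat (Localization.AtPrime q.asIdeal) SQ

end Groth.Agent.J2Lib
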